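import Groth.Prelude.Def_GrLC
import Groth.Agent.Lib.RegLoc.Basic
import Groth.Agent.Lib.Serre.Regular
import Groth.Agent.Lib.GeomReg.FG
import Mathlib.Algebra.DualNumber
import Mathlib.Algebra.Polynomial.Laurent
import Mathlib.RingTheory.AdjoinRoot
import Mathlib.RingTheory.RegularLocalRing.Polynomial

/-!
# ℤ-graded regular rings with a homogeneous unit of degree `N`

`R/(t-1)` is regular local, and adjoining an `N`-th root of `t` gives its Laurent polynomial ring.
-/

universe u v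

open DirectSum

namespace GrothLib.GradedRoot27

variable {R : Type u} [CommRing R] (𝒜 : ℤ → AddSubgroup R) [GradedRing 𝒜]

/-- A ring homomorphism out of a graded ring, given on the homogeneous elements. -/
noncomputable def liftHom {S : Type v} [CommRing S] (f : ∀ i, 𝒜 i →+ S)
    (h1 : f 0 ⟨1, SetLike.one_mem_graded 𝒜⟩ = 1)
    (hmul : ∀ (i j : ℤ) (a : 𝒜 i) (b : 𝒜 j),
      f (i + j) ⟨a.1 * b.1, SetLike.mul_mem_graded a.2 b.2⟩ = f i a * f j b) : R →+* S :=
  (DirectSum.toSemiring f h1 fun a b => hmul _ _ a b).comp (decomposeRingEquiv 𝒜).toRingHom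

theorem liftHom_apply {S : Type v} [CommRing S] (f : ∀ i, 𝒜 i →+ S)
    (h1 : f 0 ⟨1, SetLike.one_mem_graded 𝒜⟩ = 1)
    (hmul : ∀ (i j : ℤ) (a : 𝒜 i) (b : 𝒜 j),
      f (i + j) ⟨a.1 * b.1, SetLike.mul_mem_graded a.2 b.2⟩ = f i a * f j b)
    {i : ℤ} {a : R} (ha : a ∈ 𝒜 i) : liftHom 𝒜 f h1 hmul a = f i ⟨a, ha⟩ := by
  show DirectSum.toSemiring f h1 (fun a b => hmul _ _ a b) (decompose 𝒜 a) = _
  rw [decompose_of_mem 𝒜 ha, DirectSum.toSemiring_of]

theorem induction {p : R → Prop} (h0 : p 0) (hh : ∀ (i : ℤ) (a : R), a ∈ 𝒜 i → p a)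
    (ha : ∀ x y, p x → p y → p (x + y)) (r : R) : p r :=
  DirectSum.Decomposition.inductionOn 𝒜 h0 (fun m => hh _ _ m.2) ha r

theorem inv_mem {N : ℤ} {t : R} (ht : t ∈ 𝒜 N) (U : Rˣ) (hU : (U : R) = t) :
    ((U⁻¹ : Rˣ) : R) ∈ 𝒜 (-N) := by
  have h := coe_decompose_mul_add_of_right_mem 𝒜 (a := ((U⁻¹ : Rˣ) : R)) (i := -N) ht
  rw [← hU, Units.inv_mul, neg_add_cancel, decompose_of_mem_same 𝒜 (SetLike.one_mem_graded 𝒜)] at h
  have h2 : (decompose 𝒜 ((U⁻¹ : Rˣ) : R) (-N) : R) = ((U⁻¹ : Rˣ) : R) :=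
    (Units.eq_inv_of_mul_eq_one_left (a := (decompose 𝒜 ((U⁻¹ : Rˣ) : R) (-N) : R)) (u := U) (by rw [mul_comm]; exact h.symm))
  rw [← h2]
  exact SetLike.coe_mem _

theorem zpow_mem {N : ℤ} {t : R} (ht : t ∈ 𝒜 N) (U : Rˣ) (hU : (U : R) = t) (l : ℤ) :
    ((U ^ l : Rˣ) : R) ∈ 𝒜 (l * N) := by
  induction l using Int.induction_on with
  | zero => rw [zpow_zero, Units.val_one, zero_mul]; exact SetLike.one_mem_graded 𝒜
  | succ n ih =>
    rw [zpow_add_one, Units.val_mul, add_mul, _root_.one_mul]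
    exact SetLike.mul_mem_graded ih (hU ▸ ht)
  | pred n ih =>
    rw [zpow_sub_one, Units.val_mul, sub_mul, _root_.one_mul, sub_eq_add_neg]
    exact SetLike.mul_mem_graded ih (inv_mem 𝒜 ht U hU)

theorem mul_zpow_mem {N : ℤ} {t : R} (ht : t ∈ 𝒜 N) (U : Rˣ) (hU : (U : R) = t) {i d : ℤ} {a : R}
    (ha : a ∈ 𝒜 i) (l : ℤ) (h : i + l * N = d) : a * ((U ^ l : Rˣ) : R) ∈ 𝒜 d :=
  h ▸ SetLike.mul_mem_graded ha (zpow_mem 𝒜 ht U hU l)

theorem not_isUnit_of_not_dvd {N : ℕ} (hN : 0 < N) {t : R} (ht : t ∈ 𝒜 (N : ℤ)) (htu : IsUnit t)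
    (hmin : ∀ (n : ℤ), 0 < n → n < (N : ℤ) → ∀ s ∈ 𝒜 n, ¬ IsUnit s) {i : ℤ} (hi : ¬ (N : ℤ) ∣ i)
    {a : R} (ha : a ∈ 𝒜 i) : ¬ IsUnit a := by
  intro hu
  have hN' : (0 : ℤ) < N := by exact_mod_cast hN
  have hpos : 0 < i % (N : ℤ) := by
    rcases lt_or_eq_of_le (Int.emod_nonneg i hN'.ne') with h | h
    · exact h
    · exact absurd (Int.dvd_of_emod_eq_zero h.symm) hi
  exact hmin _ hpos (Int.emod_lt_of_pos i hN') _
    (mul_zpow_mem 𝒜 ht htu.unit htu.unit_spec ha (-(i / N))
      (by rw [Int.emod_def]; ring))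
    (hu.mul (Units.isUnit _))

variable [IsLocalRing (GrLC.deg0 𝒜)]

/-- `R/(t-1)` is a regular local ring. -/
theorem isRegularLocalRing_quotient [IsNoetherianRing R]
    (hreg : ∀ (p : Ideal R) [p.IsPrime], IsRegularLocalRing (Localization.AtPrime p))
    (N : ℕ) (hN : 0 < N) (t : R) (ht : t ∈ 𝒜 (N : ℤ)) (htu : IsUnit t)
    (hmin : ∀ (n : ℤ), 0 < n → n < (N : ℤ) → ∀ s ∈ 𝒜 n, ¬ IsUnit s) :
    IsRegularLocalRing (R ⧸ Ideal.span {t - 1}) := by
  classical
  have hN' : (0 : ℤ) < N := by exact_mod_cast hN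
  set U := htu.unit with hUdef
  have hU : (U : R) = t := htu.unit_spec
  let R0 := GrLC.deg0 𝒜
  let κ := IsLocalRing.ResidueField R0
  let res : R0 →+* κ := IsLocalRing.residue R0
  -- the degree-zero twist
  have hmem : ∀ {i : ℤ} {a : R}, a ∈ 𝒜 i → (N : ℤ) ∣ i → a * ((U ^ (-(i / N)) : Rˣ) : R) ∈ R0 :=
    fun {i a} ha h => mul_zpow_mem 𝒜 ht U hU ha _ (by rw [neg_mul, Int.ediv_mul_cancel h, add_neg_cancel])
  let g : ∀ i, 𝒜 i →+ κ := fun i =>
    if h : (N : ℤ) ∣ i then
      { toFun := fun a => res ⟨a.1 * ((U ^ (-(i / N)) : Rˣ) : R), hmem a.2 h⟩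
        map_zero' := by
          rw [← res.map_zero]; congr 1; exact Subtype.ext (zero_mul _)
        map_add' := fun a b => by
          rw [← res.map_add]; congr 1; exact Subtype.ext (add_mul _ _ _) }
    else 0
  have hg : ∀ {i : ℤ} (a : 𝒜 i) (h : (N : ℤ) ∣ i),
      g i a = res ⟨a.1 * ((U ^ (-(i / N)) : Rˣ) : R), hmem a.2 h⟩ := fun {i} a h => by
    simp only [g, dif_pos h]; rfl
  have hg0 : ∀ {i : ℤ} (a : 𝒜 i), ¬ (N : ℤ) ∣ i → g i a = 0 := fun {i} a h => by
    simp only [g, dif_neg h]; rfl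
  have hgmul : ∀ (i j : ℤ) (a : 𝒜 i) (b : 𝒜 j),
      g (i + j) ⟨a.1 * b.1, SetLike.mul_mem_graded a.2 b.2⟩ = g i a * g j b := by
    intro i j a b
    by_cases hi : (N : ℤ) ∣ i
    · by_cases hj : (N : ℤ) ∣ j
      · rw [hg _ (dvd_add hi hj), hg _ hi, hg _ hj, ← res.map_mul]
        congr 1
        refine Subtype.ext ?_
        show a.1 * b.1 * _ = (a.1 * _) * (b.1 * _)
        rw [Int.add_ediv_of_dvd_left hi, neg_add, zpow_add, Units.val_mul]
        ring
      · rw [hg0 b hj, mul_zero, hg0 _ fun h => hj ((dvd_add_right hi).1 h)]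
    · rw [hg0 a hi, zero_mul]
      by_cases hij : (N : ℤ) ∣ i + j
      · rw [hg _ hij]
        refine (IsLocalRing.residue_eq_zero_iff _).2 fun hc => ?_
        refine not_isUnit_of_not_dvd 𝒜 hN ht htu hmin hi a.2
          (isUnit_of_mul_isUnit_left (y := b.1 * ((U ^ (-((i + j) / N)) : Rˣ) : R)) ?_)
        rw [← mul_assoc]
        exact hc.map R0.subtype
      · rw [hg0 _ hij]
  -- the map to the dual numbers
  let w : ℤ → DualNumber κ := fun l => TrivSqZeroExt.inl 1 + TrivSqZeroExt.inr (l : κ)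
  let f : ∀ i, 𝒜 i →+ DualNumber κ := fun i =>
    (AddMonoidHom.mulRight (w (i / N))).comp ((TrivSqZeroExt.inlHom κ κ).toAddMonoidHom.comp (g i))
  have hg1 : g 0 ⟨1, SetLike.one_mem_graded 𝒜⟩ = 1 := by
    rw [hg _ (dvd_zero _), ← res.map_one]
    congr 1
    exact Subtype.ext (by simp)
  let Φ : R →+* DualNumber κ := liftHom 𝒜 f
    (by
      show TrivSqZeroExt.inlHom κ κ (g 0 ⟨1, SetLike.one_mem_graded 𝒜⟩) * w (0 / N) = 1
      rw [hg1, map_one, _root_.one_mul, Int.zero_ediv]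
      simp [w])
    (fun i j a b => by
      show TrivSqZeroExt.inlHom κ κ (g (i + j) _) * w ((i + j) / N) =
        (TrivSqZeroExt.inlHom κ κ (g i a) * w (i / N)) * (TrivSqZeroExt.inlHom κ κ (g j b) * w (j / N))
      by_cases hi : (N : ℤ) ∣ i
      · rw [hgmul, map_mul, Int.add_ediv_of_dvd_left hi]
        have hw : w (i / N + j / N) = w (i / N) * w (j / N) := by
          ext
          · simp [w]; try ring!
          · simp [w]; try ring!
        rw [hw]; ring
      · rw [hgmul, hg0 a hi]; simp)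
  have hΦ : ∀ {i : ℤ} {a : R} (ha : a ∈ 𝒜 i),
      Φ a = TrivSqZeroExt.inlHom κ κ (g i ⟨a, ha⟩) * w (i / N) := fun {i a} ha =>
    liftHom_apply 𝒜 f _ _ ha
  let χ : R →+* κ := (TrivSqZeroExt.fstHom κ κ κ).toRingHom.comp Φ
  have hχ : ∀ {i : ℤ} {a : R} (ha : a ∈ 𝒜 i), χ a = g i ⟨a, ha⟩ := fun {i a} ha => by
    show TrivSqZeroExt.fst (Φ a) = _
    rw [hΦ ha]
    simp [w]
  have hΦt : Φ (t - 1) = TrivSqZeroExt.inr 1 := by
    rw [map_sub, map_one, hΦ ht, Int.ediv_self hN'.ne', hg ⟨t, ht⟩ (dvd_refl _)]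
    have : (⟨t * ((U ^ (-((N : ℤ) / N)) : Rˣ) : R), hmem ht (dvd_refl _)⟩ : R0) = 1 :=
      Subtype.ext (by show t * _ = 1; rw [Int.ediv_self hN'.ne', zpow_neg_one, ← hU]; exact U.mul_inv)
    rw [this, map_one, map_one, _root_.one_mul]
    ext <;> simp [w]
  have hχt : χ (t - 1) = 0 := by
    show TrivSqZeroExt.fst (Φ (t - 1)) = 0
    rw [hΦt, TrivSqZeroExt.fst_inr]
  have hχsurj : Function.Surjective χ := by
    intro z
    obtain ⟨c, rfl⟩ := IsLocalRing.residue_surjective z
    refine ⟨c.1, ?_⟩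
    rw [hχ c.2, hg _ (dvd_zero _)]
    congr 1
    exact Subtype.ext (by simp)
  have hχmax : (RingHom.ker χ).IsMaximal := RingHom.ker_isMaximal_of_surjective χ hχsurj
  -- uniqueness of the maximal ideal over `t - 1`
  have huniq : ∀ (n : Ideal R), n.IsMaximal → t - 1 ∈ n → n = RingHom.ker χ := by
    intro n hn htn
    let q := Ideal.Quotient.mk n
    have hU1 : ∀ l : ℤ, q ((U ^ l : Rˣ) : R) = 1 := fun l => by
      have h1 : Units.map (q : R →* R ⧸ n) U = 1 := Units.ext (by
        show q (U : R) = 1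
        rw [hU, ← q.map_one]
        exact Ideal.Quotient.eq.2 htn)
      have := congrArg (Units.val) (map_zpow (Units.map (q : R →* R ⧸ n)) U l)
      rw [h1, one_zpow] at this
      exact this
    let φ : R0 →+* R ⧸ n := q.comp R0.subtype
    have hpow : ∀ {i : ℤ} {a : R}, a ∈ 𝒜 i → a ^ N * ((U ^ (-i) : Rˣ) : R) ∈ R0 := fun {i a} ha =>
      mul_zpow_mem 𝒜 ht U hU (SetLike.pow_mem_graded N ha) _ (by simp; ring)
    have hint : φ.IsIntegral := by
      intro y
      obtain ⟨x, rfl⟩ := Ideal.Quotient.mk_surjective y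
      induction x using induction 𝒜 with
      | h0 => rw [map_zero]; exact φ.isIntegralElem_zero
      | hh i a ha =>
        refine ⟨Polynomial.X ^ N - Polynomial.C ⟨_, hpow ha⟩, Polynomial.monic_X_pow_sub_C _ hN.ne', ?_⟩
        show Polynomial.eval₂ φ (q a) _ = 0
        rw [Polynomial.eval₂_sub, Polynomial.eval₂_pow, Polynomial.eval₂_X, Polynomial.eval₂_C]
        show q a ^ N - q (a ^ N * _) = 0
        rw [map_mul, hU1, mul_one, map_pow, sub_self]
      | ha x y hx hy => rw [map_add]; exact RingHom.IsIntegralElem.add φ hx hy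
    have hcomap : ∀ c : R0, (c : R) ∈ n ↔ c ∈ IsLocalRing.maximalIdeal R0 := by
      haveI := hn
      letI := Ideal.Quotient.field n
      haveI : (RingHom.ker φ).IsMaximal :=
        Ideal.isMaximal_comap_of_isIntegral_of_isMaximal' φ hint (⊥ : Ideal (R ⧸ n))
      have h := IsLocalRing.eq_maximalIdeal this
      intro c
      rw [← h, RingHom.mem_ker]
      exact Ideal.Quotient.eq_zero_iff_mem.symm
    have key : ∀ x : R, ∃ c : R0, x - c ∈ n ∧ χ x = res c := by
      intro x
      induction x using induction 𝒜 with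
      | h0 => exact ⟨0, by simp, by simp⟩
      | hh i a ha =>
        by_cases hi : (N : ℤ) ∣ i
        · refine ⟨⟨_, hmem ha hi⟩, Ideal.Quotient.eq.1 ?_, by rw [hχ ha, hg _ hi]⟩
          show q a = q (a * _)
          rw [map_mul, hU1, mul_one]
        · refine ⟨0, ?_, by rw [hχ ha, hg0 _ hi, map_zero]⟩
          have hm : (⟨_, hpow ha⟩ : R0) ∈ IsLocalRing.maximalIdeal R0 := by
            intro hc
            have := hc.map R0.subtype
            exact not_isUnit_of_not_dvd 𝒜 hN ht htu hmin hi ha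
              ((isUnit_pow_iff hN.ne').1 (isUnit_of_mul_isUnit_left this))
          have h2 : a ^ N * ((U ^ (-i) : Rˣ) : R) ∈ n := (hcomap _).2 hm
          have h3 : a ∈ n := hn.isPrime.mem_of_pow_mem N ((hn.isPrime.mem_or_mem h2).resolve_right
            fun h => hn.ne_top (Ideal.eq_top_of_isUnit_mem n h (Units.isUnit _)))
          simpa using h3
      | ha x y hx hy =>
        obtain ⟨c, hc, hc'⟩ := hx
        obtain ⟨d, hd, hd'⟩ := hy
        refine ⟨c + d, ?_, by rw [map_add, map_add, hc', hd']⟩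
        convert n.add_mem hc hd using 1
        push_cast
        ring
    refine (hχmax.eq_of_le hn.ne_top fun x hx => ?_).symm
    obtain ⟨c, hc, hc'⟩ := key x
    rw [RingHom.mem_ker] at hx
    rw [hx] at hc'
    have : (c : R) ∈ n := (hcomap c).2 ((IsLocalRing.residue_eq_zero_iff c).1 hc'.symm)
    simpa using n.add_mem hc this
  let I : Ideal R := Ideal.span {t - 1}
  have hIle : I ≤ RingHom.ker χ := (Ideal.span_singleton_le_iff_mem _).2 hχt
  -- `R/(t-1)` is local, hence a quotient of the localisation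
  haveI : IsLocalRing (R ⧸ I) := by
    refine IsLocalRing.of_unique_max_ideal ⟨(RingHom.ker χ).map (Ideal.Quotient.mk I),
      Ideal.IsMaximal.map_of_surjective_of_ker_le Ideal.Quotient.mk_surjective
        (by rwa [Ideal.mk_ker]), fun M hM => ?_⟩
    haveI := hM
    have h2 := huniq _ (Ideal.comap_isMaximal_of_surjective (Ideal.Quotient.mk I)
      Ideal.Quotient.mk_surjective) (by
        rw [Ideal.mem_comap, show Ideal.Quotient.mk I (t - 1) = 0 from
          Ideal.Quotient.eq_zero_iff_mem.2 (Ideal.mem_span_singleton_self _)]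
        exact M.zero_mem)
    rw [← h2, Ideal.map_comap_of_surjective _ Ideal.Quotient.mk_surjective]
  haveI : (RingHom.ker χ).IsPrime := hχmax.isPrime
  let L := Localization.AtPrime (RingHom.ker χ)
  haveI : IsRegularLocalRing L := hreg _
  let al := algebraMap R L
  have hxmem : al (t - 1) ∈ IsLocalRing.maximalIdeal L :=
    (IsLocalization.AtPrime.to_map_mem_maximal_iff L (RingHom.ker χ) _).2 hχt
  have hΦsq : ∀ a ∈ RingHom.ker χ ^ 2, Φ a = 0 := by
    intro a ha
    rw [sq] at ha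
    refine Submodule.mul_induction_on ha (fun x hx y hy => ?_) fun x y hx hy => by
      rw [map_add, hx, hy, add_zero]
    have hx' : TrivSqZeroExt.fst (Φ x) = 0 := hx
    have hy' : TrivSqZeroExt.fst (Φ y) = 0 := hy
    rw [map_mul]
    ext <;> simp [hx', hy']
  have hxsq : al (t - 1) ∉ IsLocalRing.maximalIdeal L ^ 2 := by
    rw [← Localization.AtPrime.map_eq_maximalIdeal, ← Ideal.map_pow]
    intro h
    obtain ⟨⟨⟨a, ha⟩, s⟩, hs⟩ :=
      (IsLocalization.mem_map_algebraMap_iff (RingHom.ker χ).primeCompl L).1 h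
    rw [← map_mul] at hs
    obtain ⟨c, hc⟩ := (IsLocalization.eq_iff_exists (RingHom.ker χ).primeCompl L).1 hs
    have := congrArg Φ hc
    rw [map_mul, map_mul, map_mul, hΦsq a ha, mul_zero, hΦt] at this
    have h2 := congrArg TrivSqZeroExt.snd this
    simp at h2
    exact h2.elim c.2 s.2
  have hq := (GrothLib.RegLoc.quotient_isRegularLocalRing hxmem hxsq).1
  have hunit : ∀ s : (RingHom.ker χ).primeCompl, IsUnit (Ideal.Quotient.mk I (s : R)) := by
    intro s
    by_contra h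
    obtain ⟨M, hM, hsM⟩ := exists_max_ideal_of_mem_nonunits (mem_nonunits_iff.2 h)
    haveI := hM
    have := huniq _ (Ideal.comap_isMaximal_of_surjective (Ideal.Quotient.mk I)
      Ideal.Quotient.mk_surjective) (by
        rw [Ideal.mem_comap, show Ideal.Quotient.mk I (t - 1) = 0 from
          Ideal.Quotient.eq_zero_iff_mem.2 (Ideal.mem_span_singleton_self _)]
        exact M.zero_mem)
    exact s.2 (this.le hsM)
  let π : L →+* R ⧸ I := IsLocalization.lift (M := (RingHom.ker χ).primeCompl) hunit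
  have hπ : Function.Surjective π := fun y => by
    obtain ⟨r, rfl⟩ := Ideal.Quotient.mk_surjective y
    exact ⟨al r, IsLocalization.lift_eq hunit r⟩
  have hker : RingHom.ker π = Ideal.span {al (t - 1)} := by
    refine le_antisymm (fun x hx => ?_) ?_
    · obtain ⟨⟨r, s⟩, rfl⟩ := IsLocalization.mk'_surjective (RingHom.ker χ).primeCompl x
      rw [RingHom.mem_ker] at hx
      rw [show π (IsLocalization.mk' L r s) = 0 ↔ Ideal.Quotient.mk I r = 0 by
        show IsLocalization.lift hunit _ = 0 ↔ _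
        rw [IsLocalization.lift_mk'_spec, mul_zero]] at hx
      obtain ⟨b, rfl⟩ := Ideal.mem_span_singleton'.1 (Ideal.Quotient.eq_zero_iff_mem.1 hx)
      show IsLocalization.mk' L (b * (t - 1)) s ∈ _
      rw [IsLocalization.mk'_eq_mul_mk'_one, map_mul]
      exact Ideal.mul_mem_right _ _ (Ideal.mul_mem_left _ _ (Ideal.mem_span_singleton_self _))
    · rw [Ideal.span_singleton_le_iff_mem, RingHom.mem_ker]
      show π (al (t - 1)) = 0
      rw [IsLocalization.lift_eq]
      exact Ideal.Quotient.eq_zero_iff_mem.2 (Ideal.mem_span_singleton_self _)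
  exact IsRegularLocalRing.of_ringEquiv
    ((Ideal.quotEquivOfEq hker.symm).trans (RingHom.quotientKerEquivOfSurjective hπ))

/-- Adjoining an `N`-th root of `t` gives the Laurent polynomials over `R/(t-1)`. -/
theorem isRegularRing_adjoinRoot (N : ℕ) (t : R) (ht : t ∈ 𝒜 (N : ℤ)) (htu : IsUnit t) (hN : 0 < N)
    [IsRegularLocalRing (R ⧸ Ideal.span {t - 1})] :
    IsRegularRing (AdjoinRoot (Polynomial.X ^ N - Polynomial.C t)) := by
  classical
  let P := Polynomial.X ^ N - Polynomial.C t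
  let C' := R ⧸ Ideal.span {t - 1}
  have hr : AdjoinRoot.root P ^ N = AdjoinRoot.of P t := by
    rw [← sub_eq_zero, ← AdjoinRoot.mk_X, ← AdjoinRoot.mk_C, ← map_pow, ← map_sub]
    exact AdjoinRoot.mk_self
  have hVu : IsUnit (AdjoinRoot.root P) :=
    (isUnit_pow_iff hN.ne').1 (hr ▸ htu.map (AdjoinRoot.of P))
  set V := hVu.unit with hVdef
  have hV : (V : AdjoinRoot P) = AdjoinRoot.root P := hVu.unit_spec
  let ψ : R →+* AdjoinRoot P := liftHom 𝒜
    (fun i => (AddMonoidHom.mulRight ((V ^ (-i) : (AdjoinRoot P)ˣ) : AdjoinRoot P)).comp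
      ((AdjoinRoot.of P).toAddMonoidHom.comp (𝒜 i).subtype))
    (by simp)
    (fun i j a b => by
      show AdjoinRoot.of P (a.1 * b.1) * ((V ^ (-(i + j)) : (AdjoinRoot P)ˣ) : AdjoinRoot P) =
        (AdjoinRoot.of P a.1 * _) * (AdjoinRoot.of P b.1 * _)
      rw [map_mul, neg_add, zpow_add, Units.val_mul]
      ring!)
  have hψ : ∀ {i : ℤ} {a : R}, a ∈ 𝒜 i →
      ψ a = AdjoinRoot.of P a * ((V ^ (-i) : (AdjoinRoot P)ˣ) : AdjoinRoot P) := fun {i a} ha =>
    liftHom_apply 𝒜 _ _ _ ha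
  have hψt : ∀ a ∈ Ideal.span {t - 1}, ψ a = 0 := by
    intro a ha
    obtain ⟨b, rfl⟩ := Ideal.mem_span_singleton'.1 ha
    rw [map_mul, map_sub, map_one, hψ ht, zpow_neg, zpow_natCast, ← hr, ← hV, ← Units.val_pow_eq_pow_val,
      Units.mul_inv, sub_self, mul_zero]
  let G : LaurentPolynomial C' →+* AdjoinRoot P :=
    LaurentPolynomial.eval₂ (Ideal.Quotient.lift _ ψ hψt) V
  let θ : R →+* LaurentPolynomial C' := liftHom 𝒜
    (fun i => (AddMonoidHom.mulRight (LaurentPolynomial.T i)).comp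
      ((LaurentPolynomial.C.comp (Ideal.Quotient.mk _)).toAddMonoidHom.comp (𝒜 i).subtype))
    (by simp [C'])
    (fun i j a b => by
      show LaurentPolynomial.C (Ideal.Quotient.mk _ (a.1 * b.1)) * LaurentPolynomial.T (i + j) =
        (LaurentPolynomial.C (Ideal.Quotient.mk _ a.1) * _) * (LaurentPolynomial.C (Ideal.Quotient.mk _ b.1) * _)
      rw [map_mul, map_mul, LaurentPolynomial.T_add]
      ring!)
  have hθ : ∀ {i : ℤ} {a : R}, a ∈ 𝒜 i →
      θ a = LaurentPolynomial.C (Ideal.Quotient.mk _ a) * LaurentPolynomial.T i := fun {i a} ha =>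
    liftHom_apply 𝒜 _ _ _ ha
  have hθt : P.eval₂ θ (LaurentPolynomial.T 1) = 0 := by
    rw [Polynomial.eval₂_sub, Polynomial.eval₂_pow, Polynomial.eval₂_X, Polynomial.eval₂_C, hθ ht,
      LaurentPolynomial.T_pow, show Ideal.Quotient.mk (Ideal.span {t - 1}) t = 1 from
        (Ideal.Quotient.eq.2 (Ideal.mem_span_singleton_self _)).trans (map_one _), map_one,
      _root_.one_mul, mul_one, sub_self]
  let F : AdjoinRoot P →+* LaurentPolynomial C' := AdjoinRoot.lift θ (LaurentPolynomial.T 1) hθt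
  have hGC : ∀ a : R, G (LaurentPolynomial.C (Ideal.Quotient.mk _ a)) = ψ a := fun a => by
    simp only [G, LaurentPolynomial.eval₂_C]
    rfl
  have hGT : ∀ n : ℤ, G (LaurentPolynomial.T n) = ((V ^ n : (AdjoinRoot P)ˣ) : AdjoinRoot P) :=
    fun n => by simp [G]
  have hFV : ∀ n : ℤ, F ((V ^ n : (AdjoinRoot P)ˣ) : AdjoinRoot P) = LaurentPolynomial.T n := by
    have h1 : F (V : AdjoinRoot P) = LaurentPolynomial.T 1 := by
      rw [hV]; exact AdjoinRoot.lift_root _
    have h2 : F ((V⁻¹ : (AdjoinRoot P)ˣ) : AdjoinRoot P) = LaurentPolynomial.T (-1) := by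
      have := congrArg F V.inv_mul
      rw [map_mul, map_one, h1] at this
      calc F ((V⁻¹ : (AdjoinRoot P)ˣ) : AdjoinRoot P)
          = F ((V⁻¹ : (AdjoinRoot P)ˣ) : AdjoinRoot P) * (LaurentPolynomial.T 1 * LaurentPolynomial.T (-1)) := by
            rw [← LaurentPolynomial.T_add, add_neg_cancel, LaurentPolynomial.T_zero, mul_one]
        _ = LaurentPolynomial.T (-1) := by rw [← mul_assoc, this, _root_.one_mul]
    intro n
    induction n using Int.induction_on with
    | zero => simp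
    | succ k ih => rw [zpow_add_one, Units.val_mul, map_mul, ih, h1, LaurentPolynomial.T_add]
    | pred k ih =>
      rw [zpow_sub_one, Units.val_mul, map_mul, ih, h2, sub_eq_add_neg (-(k : ℤ)), LaurentPolynomial.T_add]
  have hFG : F.comp G = RingHom.id _ := by
    refine RingHom.ext fun p => ?_
    induction p using LaurentPolynomial.induction_on' with
    | add p q hp hq => simp only [map_add, hp, hq]
    | C_mul_T n c =>
      obtain ⟨a, rfl⟩ := Ideal.Quotient.mk_surjective c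
      show F (G _) = _
      rw [map_mul, map_mul, hGC, hGT, hFV]
      congr 1
      induction a using induction 𝒜 with
      | h0 => simp
      | hh i a ha =>
        rw [hψ ha, map_mul, hFV, show F (AdjoinRoot.of P a) = θ a from AdjoinRoot.lift_of _, hθ ha,
          mul_assoc, ← LaurentPolynomial.T_add, add_neg_cancel, LaurentPolynomial.T_zero, mul_one]
      | ha x y hx hy => simp only [map_add, hx, hy]
  have hGF : G.comp F = RingHom.id _ := by
    refine RingHom.ext fun z => ?_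
    obtain ⟨p, rfl⟩ := AdjoinRoot.mk_surjective z
    induction p using Polynomial.induction_on' with
    | add p q hp hq => simp only [map_add, hp, hq]
    | monomial n a =>
      rw [← Polynomial.C_mul_X_pow_eq_monomial, map_mul, map_pow, AdjoinRoot.mk_C, AdjoinRoot.mk_X]
      show G (F _) = _
      rw [map_mul, map_mul, map_pow, map_pow, show F (AdjoinRoot.root P) = LaurentPolynomial.T 1 from
        AdjoinRoot.lift_root _, hGT, zpow_one, hV]
      congr 1
      rw [show F (AdjoinRoot.of P a) = θ a from AdjoinRoot.lift_of _]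
      induction a using induction 𝒜 with
      | h0 => simp
      | hh i a ha =>
        rw [hθ ha, map_mul, hGC, hGT, hψ ha, mul_assoc, ← Units.val_mul, ← zpow_add, neg_add_cancel,
          zpow_zero, Units.val_one, mul_one]
      | ha x y hx hy => simp only [map_add, hx, hy]
  haveI : IsRegularRing C' :=
    isRegularRing_iff.2 fun p _ => GrothLib.Serre.isRegularLocalRing_localization C' p _
  haveI : IsRegularRing (LaurentPolynomial C') :=
    GrothLib.GeomReg.isRegularRing_of_isLocalization (Submonoid.powers (Polynomial.X : Polynomial C')) _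
  exact IsRegularRing.of_ringEquiv (RingEquiv.ofRingHom G F hGF hFG)

end GrothLib.GradedRoot27
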